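import Mathlib
import Cfsg.Prelude.Def_Classical

/-!
# Totally singular subspaces of the standard quadratic forms
-/

set_option autoImplicit false

namespace CfsgLib.QuadTwo

open Matrix

variable {K : Type*} [Field K] {V : Type*} [AddCommGroup V] [Module K V] [FiniteDimensional K V] {k : ℕ}

/-- If `X, Y : V → K^k` are linear, `Y` is injective on the vectors of `U` killed by `X`, and these
vectors are paired to zero with `U`, then `U` has dimension at most `k`. -/
theorem finrank_le_of_pairing (U : Submodule K V) (X Y : V →ₗ[K] (Fin k → K))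
    (h1 : ∀ u ∈ U, X u = 0 → Y u = 0 → u = 0)
    (h2 : ∀ u ∈ U, X u = 0 → ∀ v ∈ U, X v ⬝ᵥ Y u = 0) :
    Module.finrank K U ≤ k := by
  set L := X.comp U.subtype with hL
  let Φ : LinearMap.ker L →ₗ[K] (LinearMap.range L).dualAnnihilator :=
    LinearMap.codRestrict _
      ((dotProductEquiv K (Fin k)).toLinearMap.comp (Y.comp (U.subtype.comp (LinearMap.ker L).subtype)))
      (fun u => by
        rw [Submodule.mem_dualAnnihilator]
        rintro w ⟨v, rfl⟩
        show Y (u : U) ⬝ᵥ X (v : V) = 0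
        rw [dotProduct_comm]
        exact h2 _ (u : U).2 u.2 _ v.2)
  have hinj : Function.Injective Φ := by
    refine (injective_iff_map_eq_zero Φ).2 fun u hu => ?_
    apply Subtype.ext
    apply Subtype.ext
    refine h1 _ (u : U).2 u.2 ?_
    have := congrArg Subtype.val hu
    exact (dotProductEquiv K (Fin k)).injective (this.trans (map_zero _).symm)
  have e1 := LinearMap.finrank_range_add_finrank_ker L
  have e2 := Subspace.finrank_add_finrank_dualAnnihilator_eq (LinearMap.range L)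
  have e3 := LinearMap.finrank_le_finrank_of_injective hinj
  rw [Module.finrank_fin_fun] at e2
  omega

theorem plus_finrank_le (m : ℕ) (U : Submodule K (Fin m ⊕ Fin m → K))
    (hU : ∀ u ∈ U, Cfsg.quadFormPlus m K u = 0) : Module.finrank K U ≤ m := by
  refine finrank_le_of_pairing U (LinearMap.funLeft K K Sum.inl) (LinearMap.funLeft K K Sum.inr)
    (fun u _ hx hy => ?_) (fun u hu hx v hv => ?_)
  · funext i
    rcases i with i | i
    · exact congrFun hx i
    · exact congrFun hy i
  · have hx' : ∀ i, u (Sum.inl i) = 0 := fun i => congrFun hx i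
    have h := hU _ (U.add_mem hu hv)
    have hv' := hU _ hv
    simp only [Cfsg.quadFormPlus, Pi.add_apply, hx', zero_add, mul_add, Finset.sum_add_distrib] at h hv'
    rw [hv', add_zero] at h
    exact h

theorem minus_finrank_le (m : ℕ) (a b : K)
    (hani : ∀ z₁ z₂ : K, z₁ ^ 2 + a * z₁ * z₂ + b * z₂ ^ 2 = 0 → z₁ = 0 ∧ z₂ = 0)
    (U : Submodule K ((Fin m ⊕ Fin m) ⊕ Fin 2 → K))
    (hU : ∀ u ∈ U, Cfsg.quadFormMinus m K a b u = 0) : Module.finrank K U ≤ m := by
  refine finrank_le_of_pairing U (LinearMap.funLeft K K (Sum.inl ∘ Sum.inl))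
    (LinearMap.funLeft K K (Sum.inl ∘ Sum.inr)) (fun u hu hx hy => ?_) (fun u hu hx v hv => ?_)
  · have hx' : ∀ i, u (Sum.inl (Sum.inl i)) = 0 := fun i => congrFun hx i
    have h := hU u hu
    simp only [Cfsg.quadFormMinus, hx', zero_mul, Finset.sum_const_zero, zero_add] at h
    obtain ⟨h0, h1⟩ := hani _ _ h
    funext i
    rcases i with (i | i) | i
    · exact hx' i
    · exact congrFun hy i
    · fin_cases i
      · exact h0
      · exact h1
  · have hx' : ∀ i, u (Sum.inl (Sum.inl i)) = 0 := fun i => congrFun hx i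
    have hu' := hU u hu
    simp only [Cfsg.quadFormMinus, hx', zero_mul, Finset.sum_const_zero, zero_add] at hu'
    obtain ⟨h0, h1⟩ := hani _ _ hu'
    have h := hU _ (U.add_mem hu hv)
    have hv' := hU _ hv
    simp only [Cfsg.quadFormMinus, Pi.add_apply, hx', h0, h1, zero_add, mul_add, Finset.sum_add_distrib] at h
    simp only [Cfsg.quadFormMinus] at hv'
    show ∑ i, v (Sum.inl (Sum.inl i)) * u (Sum.inl (Sum.inr i)) = 0
    linear_combination h - hv'

omit V in
/-- The span of the first `k` coordinate vectors. -/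
theorem exists_coord_subspace {ι : Type*} [Fintype ι] [DecidableEq ι] (j : Fin k → ι)
    (hj : Function.Injective j) :
    ∃ U : Submodule K (ι → K), (∀ u ∈ U, ∀ i, (∀ l, j l ≠ i) → u i = 0) ∧ Module.finrank K U = k := by
  refine ⟨LinearMap.range (Function.ExtendByZero.linearMap K j), ?_, ?_⟩
  · rintro u ⟨w, rfl⟩ i hi
    show Function.extend j w 0 i = 0
    exact Function.extend_apply' _ _ _ (fun ⟨l, hl⟩ => hi l hl)
  · rw [LinearMap.finrank_range_of_inj, Module.finrank_fin_fun]
    intro w w' h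
    funext l
    have := congrFun h (j l)
    exact (hj.extend_apply w 0 l).symm.trans (this.trans (hj.extend_apply w' 0 l))

omit V in
theorem plus_exists (m : ℕ) : ∃ U : Submodule K (Fin m ⊕ Fin m → K),
    (∀ u ∈ U, Cfsg.quadFormPlus m K u = 0) ∧ Module.finrank K U = m := by
  obtain ⟨U, h1, h2⟩ := exists_coord_subspace (K := K) (Sum.inl : Fin m → Fin m ⊕ Fin m) Sum.inl_injective
  refine ⟨U, fun u hu => Finset.sum_eq_zero fun i _ => ?_, h2⟩
  rw [h1 u hu (Sum.inr i) (fun l => Sum.inl_ne_inr), mul_zero]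

omit V in
theorem minus_exists (m : ℕ) (a b : K) : ∃ U : Submodule K ((Fin m ⊕ Fin m) ⊕ Fin 2 → K),
    (∀ u ∈ U, Cfsg.quadFormMinus m K a b u = 0) ∧ Module.finrank K U = m := by
  obtain ⟨U, h1, h2⟩ := exists_coord_subspace (K := K)
    (Sum.inl ∘ Sum.inl : Fin m → (Fin m ⊕ Fin m) ⊕ Fin 2) (Sum.inl_injective.comp Sum.inl_injective)
  refine ⟨U, fun u hu => ?_, h2⟩
  have hy : ∀ i, u (Sum.inl (Sum.inr i)) = 0 := fun i => h1 u hu _ (fun l => by simp)
  have hz : ∀ i, u (Sum.inr i) = 0 := fun i => h1 u hu _ (fun l => by simp)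
  simp [Cfsg.quadFormMinus, hy, hz]

theorem anisotropic_two : ∀ z₁ z₂ : ZMod 2, z₁ ^ 2 + 1 * z₁ * z₂ + 1 * z₂ ^ 2 = 0 → z₁ = 0 ∧ z₂ = 0 := by
  decide

/-- The plus and minus forms are inequivalent. -/
theorem plus_not_minus (n : ℕ)
    (g : (Fin (n + 1) ⊕ Fin (n + 1) → ZMod 2) ≃ₗ[ZMod 2] ((Fin n ⊕ Fin n) ⊕ Fin 2 → ZMod 2))
    (h : ∀ v, Cfsg.quadFormPlus (n + 1) (ZMod 2) v = Cfsg.quadFormMinus n (ZMod 2) 1 1 (g v)) : False := by
  obtain ⟨U, hU, hd⟩ := plus_exists (K := ZMod 2) (n + 1)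
  have h1 := minus_finrank_le n 1 1 anisotropic_two (U.map g.toLinearMap) (by
    rintro _ ⟨v, hv, rfl⟩
    exact (h v).symm.trans (hU v hv))
  rw [LinearEquiv.finrank_map_eq, hd] at h1
  omega

end CfsgLib.QuadTwo
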