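import Mathlib
import Cfsg.Agent.QuadTwo.Witt

/-!
# Quadratic forms with a given polar form over the field of two elements
-/

set_option autoImplicit false

namespace CfsgLib.QuadTwo

abbrev Vec (m : ℕ) := Fin m ⊕ Fin m → ZMod 2

/-- The polar form. -/
def pol {m : ℕ} (u v : Vec m) : ZMod 2 :=
  ∑ i, (u (Sum.inl i) * v (Sum.inr i) + v (Sum.inl i) * u (Sum.inr i))

theorem pol_add_right {m : ℕ} (u v w : Vec m) : pol u (v + w) = pol u v + pol u w := by
  simp only [pol, Pi.add_apply, ← Finset.sum_add_distrib]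
  exact Finset.sum_congr rfl fun i _ => by ring

theorem pol_smul_right {m : ℕ} (c : ZMod 2) (u v : Vec m) : pol u (c • v) = c * pol u v := by
  simp only [pol, Pi.smul_apply, smul_eq_mul, Finset.mul_sum]
  exact Finset.sum_congr rfl fun i _ => by ring

theorem pol_comm {m : ℕ} (u v : Vec m) : pol u v = pol v u :=
  Finset.sum_congr rfl fun i _ => by ring

theorem pol_self {m : ℕ} (u : Vec m) : pol u u = 0 :=
  Finset.sum_eq_zero fun i _ => CharTwo.add_self_eq_zero _

theorem plus_add {m : ℕ} (u v : Vec m) :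
    Cfsg.quadFormPlus m (ZMod 2) (u + v) =
      Cfsg.quadFormPlus m (ZMod 2) u + Cfsg.quadFormPlus m (ZMod 2) v + pol u v := by
  simp only [Cfsg.quadFormPlus, pol, Pi.add_apply, ← Finset.sum_add_distrib]
  exact Finset.sum_congr rfl fun i _ => by ring

theorem plus_smul {m : ℕ} (c : ZMod 2) (u : Vec m) :
    Cfsg.quadFormPlus m (ZMod 2) (c • u) = c * Cfsg.quadFormPlus m (ZMod 2) u := by
  simp only [Cfsg.quadFormPlus, Pi.smul_apply, smul_eq_mul, Finset.mul_sum]
  exact Finset.sum_congr rfl fun i _ => by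
    have : c * c = c := by revert c; decide
    linear_combination (u (Sum.inl i) * u (Sum.inr i)) * this

/-- The forms polarizing to `pol`. -/
def IsPolar {m : ℕ} (q : Vec m → ZMod 2) : Prop :=
  ∀ u v, q (u + v) = q u + q v + (Cfsg.quadFormPlus m (ZMod 2) (u + v) -
    Cfsg.quadFormPlus m (ZMod 2) u - Cfsg.quadFormPlus m (ZMod 2) v)

/-- The form attached to a vector. -/
def qf {m : ℕ} (a v : Vec m) : ZMod 2 := Cfsg.quadFormPlus m (ZMod 2) v + pol a v

theorem isPolar_qf {m : ℕ} (a : Vec m) : IsPolar (qf a) := fun u v => by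
  simp only [qf, plus_add, pol_add_right]
  ring

theorem qf_single {m : ℕ} (a : Vec m) (i : Fin m) :
    qf a (Pi.single (Sum.inr i) 1) = a (Sum.inl i) ∧ qf a (Pi.single (Sum.inl i) 1) = a (Sum.inr i) := by
  constructor <;>
    simp [qf, pol, Cfsg.quadFormPlus, Pi.single_apply, Finset.sum_add_distrib]

theorem qf_injective {m : ℕ} : Function.Injective (qf (m := m)) := fun a b h => by
  funext i
  rcases i with i | i
  · rw [← (qf_single a i).1, h, (qf_single b i).1]
  · rw [← (qf_single a i).2, h, (qf_single b i).2]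

theorem exists_qf {m : ℕ} (q : Vec m → ZMod 2) (hq : IsPolar q) : ∃ a, qf a = q := by
  let ℓ : Vec m →+ ZMod 2 := AddMonoidHom.mk' (fun v => q v - Cfsg.quadFormPlus m (ZMod 2) v)
    (fun u v => by show _ - _ = _; rw [hq u v]; ring)
  let L : Vec m →ₗ[ZMod 2] ZMod 2 := ℓ.toZModLinearMap 2
  refine ⟨Sum.elim (fun i => L (Pi.single (Sum.inr i) 1)) (fun i => L (Pi.single (Sum.inl i) 1)),
    funext fun v => ?_⟩
  have hv : v = ∑ j, v j • (Pi.single j 1 : Vec m) := by
    funext k; simp [Finset.sum_apply, Pi.single_apply]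
  have key : L v = ∑ j, v j * L (Pi.single j 1) := by
    conv_lhs => rw [hv]
    simp [map_sum, map_smul]
  have hL : L v = q v - Cfsg.quadFormPlus m (ZMod 2) v := rfl
  rw [Fintype.sum_sum_type, hL] at key
  have : pol (Sum.elim (fun i => L (Pi.single (Sum.inr i) 1)) (fun i => L (Pi.single (Sum.inl i) 1))) v =
      q v - Cfsg.quadFormPlus m (ZMod 2) v := by
    rw [key, pol, ← Finset.sum_add_distrib]
    exact Finset.sum_congr rfl fun i _ => by simp only [Sum.elim_inl, Sum.elim_inr]; ring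
  rw [qf, this]
  ring

/-- The transvection-like map of a singular vector. -/
def shear {m : ℕ} (a : Vec m) : Vec m ≃ₗ[ZMod 2] Vec m :=
  LinearEquiv.ofInvolutive
    { toFun := fun v => v + pol a v • a
      map_add' := fun u v => by simp only [pol_add_right, add_smul]; abel
      map_smul' := fun c v => by simp only [pol_smul_right, RingHom.id_apply, smul_add, smul_smul] }
    (fun v => by
      show v + pol a v • a + pol a (v + pol a v • a) • a = v
      rw [pol_add_right, pol_smul_right, pol_self, mul_zero, add_zero, add_assoc, ← add_smul,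
        CharTwo.add_self_eq_zero, zero_smul, add_zero])

theorem shear_apply {m : ℕ} (a v : Vec m) : shear a v = v + pol a v • a := rfl

theorem plus_shear {m : ℕ} (a : Vec m) (ha : Cfsg.quadFormPlus m (ZMod 2) a = 0) (v : Vec m) :
    qf a v = Cfsg.quadFormPlus m (ZMod 2) (shear a v) := by
  rw [shear_apply, plus_add, plus_smul, ha, mul_zero, add_zero, pol_smul_right, pol_comm v a, qf]
  congr 1
  exact (by decide : ∀ z : ZMod 2, z = z * z) _

/-- Coordinates with the pair `k` moved to the end. -/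
def coordEquiv {n : ℕ} (k : Fin (n + 1)) :
    (Fin (n + 1) ⊕ Fin (n + 1)) ≃ ((Fin n ⊕ Fin n) ⊕ Fin 2) :=
  (Equiv.sumCongr ((finSuccEquiv' k).trans (Equiv.optionEquivSumPUnit _))
    ((finSuccEquiv' k).trans (Equiv.optionEquivSumPUnit _))).trans
    ((Equiv.sumSumSumComm _ _ _ _).trans
      (Equiv.sumCongr (Equiv.refl _)
        ((Equiv.sumCongr finOneEquiv.symm finOneEquiv.symm).trans finSumFinEquiv)))

theorem coordEquiv_inl {n : ℕ} (k : Fin (n + 1)) (i : Fin n) :
    coordEquiv k (Sum.inl (k.succAbove i)) = Sum.inl (Sum.inl i) ∧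
      coordEquiv k (Sum.inr (k.succAbove i)) = Sum.inl (Sum.inr i) ∧
      coordEquiv k (Sum.inl k) = Sum.inr 0 ∧ coordEquiv k (Sum.inr k) = Sum.inr 1 := by
  refine ⟨?_, ?_, ?_, ?_⟩ <;> simp [coordEquiv, Equiv.sumSumSumComm] <;> rfl

theorem minus_coord {n : ℕ} (k : Fin (n + 1)) (v : Vec (n + 1)) :
    Cfsg.quadFormMinus n (ZMod 2) 1 1 (fun j => v ((coordEquiv k).symm j)) =
      Cfsg.quadFormPlus (n + 1) (ZMod 2) v + (v (Sum.inl k) + v (Sum.inr k)) := by
  have e1 : (coordEquiv k).symm (Sum.inr 0) = Sum.inl k := by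
    rw [Equiv.symm_apply_eq]; simp [coordEquiv, Equiv.sumSumSumComm]; rfl
  have e2 : (coordEquiv k).symm (Sum.inr 1) = Sum.inr k := by
    rw [Equiv.symm_apply_eq]; simp [coordEquiv, Equiv.sumSumSumComm]; rfl
  have e3 : ∀ i, (coordEquiv k).symm (Sum.inl (Sum.inl i)) = Sum.inl (k.succAbove i) := fun i => by
    rw [Equiv.symm_apply_eq]; exact (coordEquiv_inl k i).1.symm
  have e4 : ∀ i, (coordEquiv k).symm (Sum.inl (Sum.inr i)) = Sum.inr (k.succAbove i) := fun i => by
    rw [Equiv.symm_apply_eq]; exact (coordEquiv_inl k i).2.1.symm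
  simp only [Cfsg.quadFormMinus, Cfsg.quadFormPlus, e1, e2, e3, e4, Fin.sum_univ_succAbove _ k]
  generalize ∑ i : Fin n, v (Sum.inl (k.succAbove i)) * v (Sum.inr (k.succAbove i)) = s
  generalize v (Sum.inl k) = x
  generalize v (Sum.inr k) = y
  revert s x y
  decide

theorem exists_minus {n : ℕ} (a : Vec (n + 1)) (ha : Cfsg.quadFormPlus (n + 1) (ZMod 2) a = 1) :
    ∃ g : Vec (n + 1) ≃ₗ[ZMod 2] ((Fin n ⊕ Fin n) ⊕ Fin 2 → ZMod 2),
      ∀ v, qf a v = Cfsg.quadFormMinus n (ZMod 2) 1 1 (g v) := by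
  obtain ⟨k, hk⟩ : ∃ k, a (Sum.inl k) * a (Sum.inr k) = 1 := by
    by_contra hc
    push Not at hc
    rw [Cfsg.quadFormPlus, Finset.sum_eq_zero fun i _ =>
      (by decide : ∀ z : ZMod 2, z ≠ 1 → z = 0) _ (hc i)] at ha
    exact zero_ne_one ha
  have hk1 : a (Sum.inl k) = 1 := (by decide : ∀ x y : ZMod 2, x * y = 1 → x = 1) _ _ hk
  have hk2 : a (Sum.inr k) = 1 := (by decide : ∀ x y : ZMod 2, x * y = 1 → y = 1) _ _ hk
  set b : Vec (n + 1) := Pi.single (Sum.inl k) 1 + Pi.single (Sum.inr k) 1 with hb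
  have hpolb : ∀ v, pol b v = v (Sum.inr k) + v (Sum.inl k) := fun v => by
    simp [hb, pol, Pi.single_apply, Finset.sum_add_distrib, add_comm]
  set a' := a + b with ha'
  have hab : pol a b = 0 := by
    rw [pol_comm, hpolb, hk1, hk2]; exact CharTwo.add_self_eq_zero _
  have hQ : Cfsg.quadFormPlus (n + 1) (ZMod 2) a' = 0 := by
    have h1 : Cfsg.quadFormPlus (n + 1) (ZMod 2) b = 1 := by
      simp [hb, Cfsg.quadFormPlus, Pi.single_apply]
    rw [ha', plus_add, ha, h1, hab, add_zero]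
    exact CharTwo.add_self_eq_zero _
  refine ⟨(shear a').trans (LinearEquiv.funCongrLeft (ZMod 2) (ZMod 2) (coordEquiv k).symm), fun v => ?_⟩
  show qf a v = Cfsg.quadFormMinus n (ZMod 2) 1 1 (fun j => shear a' v ((coordEquiv k).symm j))
  rw [minus_coord, ← plus_shear a' hQ, qf, qf]
  have e1 : shear a' v (Sum.inl k) = v (Sum.inl k) := by simp [shear_apply, ha', hb, hk1, CharTwo.add_self_eq_zero]
  have e2 : shear a' v (Sum.inr k) = v (Sum.inr k) := by simp [shear_apply, ha', hb, hk2, CharTwo.add_self_eq_zero]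
  rw [e1, e2, ha', pol_comm (a + b), pol_add_right, pol_comm v a, pol_comm v b, hpolb]
  generalize Cfsg.quadFormPlus (n + 1) (ZMod 2) v = s
  generalize pol a v = t
  generalize v (Sum.inl k) = x
  generalize v (Sum.inr k) = y
  revert s t x y
  decide

theorem card_zeros (m : ℕ) :
    Nat.card {a : Vec m // Cfsg.quadFormPlus m (ZMod 2) a = 0} = 2 ^ m + (2 ^ m - 1) * 2 ^ (m - 1) := by
  classical
  have e : {a : Vec m // Cfsg.quadFormPlus m (ZMod 2) a = 0} ≃
      Σ x : Fin m → ZMod 2, {y : Fin m → ZMod 2 // ∑ i, x i * y i = 0} :=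
    ((Equiv.sumArrowEquivProdArrow (Fin m) (Fin m) (ZMod 2)).subtypeEquiv
      (q := fun p => ∑ i, p.1 i * p.2 i = 0) (fun a => Iff.rfl)).trans
      (Equiv.subtypeProdEquivSigmaSubtype fun (x y : Fin m → ZMod 2) => ∑ i, x i * y i = 0)
  rw [Nat.card_congr e, Nat.card_sigma]
  have h : ∀ x : Fin m → ZMod 2, Nat.card {y : Fin m → ZMod 2 // ∑ i, x i * y i = 0} =
      if x = 0 then 2 ^ m else 2 ^ (m - 1) := by
    intro x
    split_ifs with hx
    · subst hx
      simp
    · have hne : dotProductEquiv (ZMod 2) (Fin m) x ≠ 0 := fun h =>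
        hx ((dotProductEquiv (ZMod 2) (Fin m)).injective (h.trans (map_zero _).symm))
      have h1 := Module.Dual.finrank_ker_add_one_of_ne_zero hne
      rw [Module.finrank_fin_fun] at h1
      have h2 : Nat.card {y : Fin m → ZMod 2 // ∑ i, x i * y i = 0} =
          Nat.card (LinearMap.ker (dotProductEquiv (ZMod 2) (Fin m) x)) :=
        Nat.card_congr (Equiv.subtypeEquivRight fun y => Iff.rfl)
      rw [h2, Module.natCard_eq_pow_finrank (K := ZMod 2), Nat.card_zmod]
      congr 1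
      omega
  simp only [h]
  rw [← Finset.add_sum_erase _ _ (Finset.mem_univ (0 : Fin m → ZMod 2)), if_pos rfl,
    Finset.sum_congr rfl (fun x hx => if_neg (Finset.ne_of_mem_erase hx)), Finset.sum_const,
    Finset.card_erase_of_mem (Finset.mem_univ _), Finset.card_univ, smul_eq_mul]
  simp

theorem card_values (m : ℕ) (hm : 1 ≤ m) :
    Nat.card (Vec m) = 2 ^ (2 * m) ∧
    Nat.card {a : Vec m // Cfsg.quadFormPlus m (ZMod 2) a = 0} = 2 ^ (2 * m - 1) + 2 ^ (m - 1) ∧
    Nat.card {a : Vec m // Cfsg.quadFormPlus m (ZMod 2) a = 1} = 2 ^ (2 * m - 1) - 2 ^ (m - 1) := by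
  classical
  have h0 : Nat.card (Vec m) = 2 ^ (2 * m) := by simp [two_mul]
  obtain ⟨j, rfl⟩ : ∃ j, m = j + 1 := ⟨m - 1, by omega⟩
  have hz : Nat.card {a : Vec (j + 1) // Cfsg.quadFormPlus (j + 1) (ZMod 2) a = 0} =
      2 ^ (2 * (j + 1) - 1) + 2 ^ (j + 1 - 1) := by
    rw [card_zeros, Nat.add_sub_cancel, show 2 * (j + 1) - 1 = j + 1 + j by omega, Nat.sub_mul,
      one_mul, pow_succ 2 j, pow_add, pow_succ 2 j]
    have h1 : 2 ^ j ≤ 2 ^ j * 2 * 2 ^ j := by
      calc 2 ^ j = 2 ^ j * 1 * 1 := by ring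
        _ ≤ _ := Nat.mul_le_mul (Nat.mul_le_mul_left _ (by norm_num)) (Nat.one_le_pow _ _ (by norm_num))
    omega
  refine ⟨h0, hz, ?_⟩
  have hc : Nat.card {a : Vec (j + 1) // Cfsg.quadFormPlus (j + 1) (ZMod 2) a = 0} +
      Nat.card {a : Vec (j + 1) // ¬ Cfsg.quadFormPlus (j + 1) (ZMod 2) a = 0} = Nat.card (Vec (j + 1)) := by
    rw [← Nat.card_sum]
    exact Nat.card_congr (Equiv.sumCompl _)
  rw [Nat.card_congr (Equiv.subtypeEquivRight fun a =>
    (by decide : ∀ z : ZMod 2, z = 1 ↔ ¬ z = 0) (Cfsg.quadFormPlus (j + 1) (ZMod 2) a))]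
  have h2 : 2 ^ (2 * (j + 1)) = 2 * 2 ^ (2 * (j + 1) - 1) := by
    rw [← pow_succ']; congr 1
  rw [hz, h0, h2] at hc
  generalize 2 ^ (2 * (j + 1) - 1) = A at *
  generalize 2 ^ (j + 1 - 1) = B at *
  have key : ∀ d, A + B + d = 2 * A → d = A - B := fun d h => by omega
  exact key _ hc

theorem qf_plus_iff {n : ℕ} (a : Vec (n + 1)) :
    (∃ g : Vec (n + 1) ≃ₗ[ZMod 2] Vec (n + 1), ∀ v, qf a v = Cfsg.quadFormPlus (n + 1) (ZMod 2) (g v)) ↔
      Cfsg.quadFormPlus (n + 1) (ZMod 2) a = 0 := by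
  refine ⟨fun ⟨g, hg⟩ => ?_, fun h => ⟨shear a, plus_shear a h⟩⟩
  by_contra h
  obtain ⟨g', hg'⟩ := exists_minus a ((by decide : ∀ z : ZMod 2, z ≠ 0 → z = 1) _ h)
  exact plus_not_minus n (g.symm.trans g') fun v => by
    show _ = Cfsg.quadFormMinus n (ZMod 2) 1 1 (g' (g.symm v))
    rw [← hg', hg, LinearEquiv.apply_symm_apply]

theorem qf_minus_iff {n : ℕ} (a : Vec (n + 1)) :
    (∃ g : Vec (n + 1) ≃ₗ[ZMod 2] ((Fin n ⊕ Fin n) ⊕ Fin 2 → ZMod 2),
      ∀ v, qf a v = Cfsg.quadFormMinus n (ZMod 2) 1 1 (g v)) ↔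
      Cfsg.quadFormPlus (n + 1) (ZMod 2) a = 1 := by
  refine ⟨fun ⟨g, hg⟩ => ?_, fun h => exists_minus a h⟩
  by_contra h
  have h0 := (by decide : ∀ z : ZMod 2, z ≠ 1 → z = 0) _ h
  exact plus_not_minus n ((shear a).symm.trans g) fun v => by
    show _ = Cfsg.quadFormMinus n (ZMod 2) 1 1 (g ((shear a).symm v))
    rw [← hg, plus_shear a h0, LinearEquiv.apply_symm_apply]

end CfsgLib.QuadTwo
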